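import Cfsg.Agent.KFacts.En.Rel
import Cfsg.Agent.ChevalleyStructure.UnipProd

/-!
The height function on the root lattice (compatible with the order of the tables) and the unipotent filtration.

* `ht D l` : an additive function with `ht a ≠ 0` on roots, `lt_iff_ht`, `pos_iff_ht`;
* `UP h a` : the group generated by the root elements of the roots `b` with `ht b > ht a`;
* `eq_zero_of_mem_UP`, `dir` : independence.
-/

set_option autoImplicit false
set_option linter.unusedSectionVars false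

namespace Cfsg.Agent.KFacts.En.Dir

open Cfsg.Lie Cfsg.Agent.ChevalleyStructure Cfsg.Agent.ChevalleyStructure.Elts
  Cfsg.Agent.ChevalleyStructure.RootVec Cfsg.Agent.ChevalleyStructure.RootVecTab
  Cfsg.Agent.ChevalleyStructure.UnipProd
  Cfsg.Agent.ChevalleyStructure.CoxeterGeom Cfsg.Agent.ChevalleyStructure.CoxeterGeomTypes
  Cfsg.Agent.Nodes.RGDChev Cfsg.Agent.Tits.Roots Cfsg.Agent.Tits.Core Cfsg.Agent.KFacts.En.Tab
  Cfsg.Agent.KFacts.En.Roots Cfsg.Agent.KFacts.En.Rel
open scoped commutatorElement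

universe u

variable {D : ChevalleyDatum} {l : ℕ} {M : CoxeterMatrix (Fin l)} {F : Type u} [Field F]

/-- the height function -/
def ht (l : ℕ) : (Fin l → ℤ) →+ ℤ where
  toFun x := ∑ k : Fin l, x k * 64 ^ (l - 1 - (k : ℕ))
  map_zero' := by simp
  map_add' x y := by
    rw [← Finset.sum_add_distrib]
    exact Finset.sum_congr rfl fun k _ => by rw [Pi.add_apply]; ring

theorem ht_apply (x : Fin l → ℤ) : ht l x = ∑ k : Fin l, x k * 64 ^ (l - 1 - (k : ℕ)) := rfl

theorem digits_sum (n : ℕ) : ∀ x : ℕ, x < 64 ^ n → x = ∑ j ∈ Finset.range n, dig x j * 64 ^ j := by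
  induction n with
  | zero => intro x hx; simp at hx; simp [hx]
  | succ n ih =>
    intro x hx
    rw [Finset.sum_range_succ', dig_zero, pow_zero, mul_one]
    have h1 : ∑ k ∈ Finset.range n, dig x (k + 1) * 64 ^ (k + 1) = 64 * (x / 64) := by
      conv_rhs => rw [ih (x / 64) (by rw [Nat.div_lt_iff_lt_mul (by norm_num)]; rwa [pow_succ] at hx)]
      rw [Finset.mul_sum]
      refine Finset.sum_congr rfl fun k _ => ?_
      rw [dig_succ, pow_succ]
      ring
    rw [h1]
    omega

theorem code_eq_ht (h : Ty D l M) {r : ℕ} (hr : r < D.nroots) :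
    (code D r : ℤ) = ht l (vec D l r) + ∑ k : Fin l, 8 * 64 ^ (l - 1 - (k : ℕ)) := by
  have h1 : (code D r : ℤ) = ∑ j ∈ Finset.range l, (dig (code D r) j : ℤ) * 64 ^ j := by
    have h2 := digits_sum D.rank (code D r) (code_lt r)
    rw [h.ty.rank_eq] at h2
    exact_mod_cast h2
  rw [h1, ← Finset.sum_range_reflect, ht_apply, ← Finset.sum_add_distrib,
    ← Fin.sum_univ_eq_sum_range (fun j => (dig (code D r) (l - 1 - j) : ℤ) * 64 ^ (l - 1 - j))]
  refine Finset.sum_congr rfl fun k _ => ?_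
  have h2 : vec D l r k = (dig (code D r) (l - 1 - (k : ℕ)) : ℤ) - 8 := by
    rw [vec_apply, rt_of_lt hr (lt_rank h.ty k), h.ty.rank_eq]
  rw [h2]
  ring

theorem lt_iff_ht (h : Ty D l M) {r s : ℕ} (hr : r < D.nroots) (hs : s < D.nroots) :
    r < s ↔ ht l (vec D l r) < ht l (vec D l s) := by
  rw [← code_lt_iff h.ty.checked hr hs]
  have h1 := code_eq_ht h hr
  have h2 := code_eq_ht h hs
  constructor
  · intro h3
    have h4 : (code D r : ℤ) < code D s := by exact_mod_cast h3
    omega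
  · intro h3
    have h4 : (code D r : ℤ) < code D s := by omega
    exact_mod_cast h4

theorem pos_iff_ht (h : Ty D l M) {r : ℕ} (hr : r < D.nroots) : D.IsPosRoot r ↔ 0 < ht l (vec D l r) := by
  have hn := neg_lt h.ty.checked hr
  rw [isPosRoot_iff_index h.ty.checked hr, lt_iff_ht h hn hr, vec_neg h.ty hr, map_neg]
  omega

theorem ht_ne_zero (h : Ty D l M) {x : Fin l → ℤ} (hx : x ∈ Phi D l) : ht l x ≠ 0 := by
  obtain ⟨r, hr, rfl⟩ := hx
  intro h0
  have h1 : ¬ D.IsPosRoot r := fun h2 => by rw [pos_iff_ht h hr] at h2; omega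
  have h2 : ¬ D.IsPosRoot (D.neg r) := fun h2 => by
    rw [pos_iff_ht h (neg_lt h.ty.checked hr), vec_neg h.ty hr, map_neg] at h2; omega
  rcases pos_or_neg h.ty.checked hr with h3 | h3
  · exact h1 h3
  · exact h2 ((isPosRoot_neg_iff h.ty.checked hr).2 h3)

theorem eq_of_ht (h : Ty D l M) {x y : Fin l → ℤ} (hx : x ∈ Phi D l) (hy : y ∈ Phi D l) (e : ht l x = ht l y) :
    x = y := by
  obtain ⟨r, hr, rfl⟩ := hx
  obtain ⟨s, hs, rfl⟩ := hy
  rcases lt_trichotomy r s with h1 | h1 | h1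
  · rw [lt_iff_ht h hr hs] at h1; omega
  · rw [h1]
  · rw [lt_iff_ht h hs hr] at h1; omega

/-- the sign of the coordinates -/
theorem coord_nonneg (h : Ty D l M) {x : Fin l → ℤ} (hx : x ∈ Phi D l) (h0 : 0 < ht l x) (i : Fin l) : 0 ≤ x i := by
  obtain ⟨r, hr, rfl⟩ := hx
  have h1 := (pos_iff_ht h hr).2 h0
  rw [isPosRoot_iff h.ty.checked] at h1
  exact h1.2 i (lt_rank h.ty i)

theorem ht_sr_pos (h : Ty D l M) (i : Fin l) : 0 < ht l (sr i) := by
  have hr := simple_lt h.ty.checked (lt_rank h.ty i)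
  have h1 := simple_pos h.ty.checked (lt_rank h.ty i)
  rw [pos_iff_ht h hr, vec_simple h.ty i] at h1
  exact h1

/-- the group generated by the root elements of the roots above `a` -/
def UP (h : Ty D l M) (F : Type u) [Field F] (a : Fin l → ℤ) : Subgroup (GL D.Idx F) :=
  Subgroup.closure {g | ∃ b ∈ Phi D l, ht l a < ht l b ∧ ∃ t : F, g = xe h b t}

theorem xe_mem_UP (h : Ty D l M) {a b : Fin l → ℤ} (hb : b ∈ Phi D l) (hab : ht l a < ht l b) (t : F) :
    xe h b t ∈ UP h F a := Subgroup.subset_closure ⟨b, hb, hab, t, rfl⟩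

theorem UP_le_iff (h : Ty D l M) {a : Fin l → ℤ} (K : Subgroup (GL D.Idx F)) :
    UP h F a ≤ K ↔ ∀ b ∈ Phi D l, ht l a < ht l b → ∀ t : F, xe h b t ∈ K := by
  constructor
  · intro h1 b hb hab t
    exact h1 (xe_mem_UP h hb hab t)
  · intro h1
    refine (Subgroup.closure_le _).2 ?_
    rintro g ⟨b, hb, hab, t, rfl⟩
    exact h1 b hb hab t

theorem UP_anti (h : Ty D l M) {a b : Fin l → ℤ} (hab : ht l a ≤ ht l b) : UP h F b ≤ UP h F a :=
  (UP_le_iff h _).2 fun _ hc hbc t => xe_mem_UP h hc (lt_of_le_of_lt hab hbc) t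

/-- in terms of the tables -/
theorem UP_vec (h : Ty D l M) {r : ℕ} (hr : D.IsPosRoot r) : UP h F (vec D l r) = unipGE D F (r + 1) := by
  have hr0 := (pos_iff_ht h hr.1).1 hr
  apply le_antisymm
  · refine (UP_le_iff h _).2 ?_
    rintro b ⟨s, hs, rfl⟩ hab t
    rw [xe_vec h hs]
    exact xG_mem_unipGE h.ty.inList ((pos_iff_ht h hs).2 (by omega)) ((lt_iff_ht h hr.1 hs).2 hab) t
  · refine (unipGE_le_iff h.ty.inList _ _).2 fun s hs hrs t => ?_
    rw [← xe_vec h hs.1 (l := l)]
    exact xe_mem_UP h (vec_mem hs.1) ((lt_iff_ht h hr.1 hs.1).1 hrs) t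

/-- the whole unipotent group -/
theorem UP_zero (h : Ty D l M) : UP h F 0 = D.posUnipotent F := by
  apply le_antisymm
  · refine (UP_le_iff h _).2 ?_
    rintro b ⟨s, hs, rfl⟩ hab t
    rw [map_zero] at hab
    rw [xe_vec h hs]
    exact xG_mem_posUnipotent h.ty.inList ((pos_iff_ht h hs).2 hab) t
  · refine (posUnipotent_le_iff h.ty.inList _).2 fun s hs t => ?_
    rw [← xe_vec h hs.1 (l := l)]
    exact xe_mem_UP h (vec_mem hs.1) (by rw [map_zero]; exact (pos_iff_ht h hs.1).1 hs) t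

theorem eq_zero_of_mem_unipGE (h : Ty D l M) {r : ℕ} (hr : D.IsPosRoot r) {t : F}
    (ht' : xG h.ty.inList r t ∈ unipGE D F (r + 1)) : t = 0 := by
  have hr2 : D.nroots / 2 ≤ r := ((UnipOrd.isPosRoot_iff h.ty.inList r).1 hr).1
  obtain ⟨t', h1, h2⟩ := exists_prod h.ty.inList (k := r + 1) (by omega) ht'
  have h3 : wordG h.ty.inList ((rootsGE D r).map fun s => (s, if s = r then t else 0)) =
      wordG h.ty.inList ((rootsGE D r).map fun s => (s, t' s)) := by
    rw [rootsGE_cons hr.1, List.map_cons, List.map_cons, wordG_cons, wordG_cons]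
    show xG h.ty.inList r (if r = r then t else 0) * _ = xG h.ty.inList r (t' r) * _
    rw [if_pos rfl, h1 r (by omega), xG_zero, one_mul, ← h2]
    have h4 : ∀ w : List (ℕ × F), (∀ p ∈ w, p.2 = 0) → wordG h.ty.inList w = 1 := by
      intro w
      induction w with
      | nil => intro _; rfl
      | cons p w ih =>
        intro hw
        rw [wordG_cons, ih fun q hq => hw q (List.mem_cons_of_mem _ hq), mul_one, hw p List.mem_cons_self, xG_zero]
    rw [h4, mul_one]
    intro p hp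
    obtain ⟨s, hs, rfl⟩ := List.mem_map.1 hp
    have := (List.Ico.mem.1 hs).1
    show (if s = r then t else 0) = 0
    rw [if_neg (by omega)]
  have h5 := prod_injective h.ty.inList hr2 h3 r le_rfl hr.1
  rw [if_pos rfl, h1 r (by omega)] at h5
  exact h5

end Cfsg.Agent.KFacts.En.Dir
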