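import Cfsg.Agent.KFacts.En.Roots

/-!
Root elements of the groups D₄(q), E₆(q), E₇(q), E₈(q), `q` even, over the root vectors.

* `xe h x t` : the root element; `xe_conj` : conjugation with `n_i`;
* `commute_xe`, `comm_xe` : the commutator relations `[x_a(t), x_b(u)] = 1` for `(a, b) ≥ 0`, `= x_{a+b}(tu)` for
  `(a, b) = -1`;
* `exists_torus` : torus elements `h_x(c)`; `exists_chi` : the character of a torus element;
* `ne h d c` : the element `n_d(c)`, `ne_conj_neg`, `ne_conj_pos` : its action, `exists_swap`.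
-/

set_option autoImplicit false
set_option linter.unusedSectionVars false

namespace Cfsg.Agent.KFacts.En.Rel

open Cfsg.Lie Cfsg.Agent.ChevalleyStructure Cfsg.Agent.ChevalleyStructure.Elts
  Cfsg.Agent.ChevalleyStructure.NConj Cfsg.Agent.ChevalleyStructure.BNChev
  Cfsg.Agent.ChevalleyStructure.RootVec Cfsg.Agent.ChevalleyStructure.RootVecTab
  Cfsg.Agent.ChevalleyStructure.CoxeterGeom Cfsg.Agent.ChevalleyStructure.CoxeterGeomTypes
  Cfsg.Agent.Nodes.RGDChev Cfsg.Agent.Tits.Roots Cfsg.Agent.Tits.Core Cfsg.Agent.KFacts.En.Tab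
  Cfsg.Agent.KFacts.En.Roots
open scoped commutatorElement

universe u

variable {D : ChevalleyDatum} {l : ℕ} {M : CoxeterMatrix (Fin l)} {F : Type u} [Field F]

/-- the root element `x_x(t)` -/
noncomputable def xe (h : Ty D l M) (x : Fin l → ℤ) (t : F) : GL D.Idx F :=
  open Classical in if hx : x ∈ Phi D l then xG h.ty.inList hx.choose t else 1

theorem xe_vec (h : Ty D l M) {r : ℕ} (hr : r < D.nroots) (t : F) :
    xe h (vec D l r) t = xG h.ty.inList r t := by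
  have hx : vec D l r ∈ Phi D l := vec_mem hr
  unfold xe
  rw [dif_pos hx]
  congr 1
  exact vec_inj h.ty hx.choose_spec.1 hr hx.choose_spec.2

theorem xe_add (h : Ty D l M) (x : Fin l → ℤ) (t u : F) : xe h x t * xe h x u = xe h x (t + u) := by
  unfold xe
  split_ifs
  · exact xG_add _ _ _ _
  · rw [one_mul]

theorem xe_zero (h : Ty D l M) (x : Fin l → ℤ) : xe h x (0 : F) = 1 := by
  unfold xe
  split_ifs
  · exact xG_zero _ _
  · rfl

theorem xe_mem_group (h : Ty D l M) (x : Fin l → ℤ) (t : F) : xe h x t ∈ D.group F := by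
  unfold xe
  split_ifs
  · exact xG_mem_group _ _ _
  · exact one_mem _

theorem mem_XV (h : Ty D l M) {x : Fin l → ℤ} (hx : x ∈ Phi D l) (g : GL D.Idx F) :
    g ∈ XV D l F x ↔ ∃ t : F, g = xe h x t := by
  obtain ⟨r, hr, rfl⟩ := hx
  rw [XV_vec h.ty F hr, mem_rootSubgroup_iff h.ty.inList]
  constructor
  · rintro ⟨t, rfl⟩
    exact ⟨t, (xe_vec h hr t).symm⟩
  · rintro ⟨t, rfl⟩
    exact ⟨t, xe_vec h hr t⟩

theorem xe_mem_XV (h : Ty D l M) {x : Fin l → ℤ} (hx : x ∈ Phi D l) (t : F) : xe h x t ∈ XV D l F x :=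
  (mem_XV h hx _).2 ⟨t, rfl⟩

theorem xe_eq_one_iff (h : Ty D l M) {x : Fin l → ℤ} (hx : x ∈ Phi D l) (t : F) : xe h x t = 1 ↔ t = 0 := by
  obtain ⟨r, hr, rfl⟩ := hx
  rw [xe_vec h hr]
  exact xG_eq_one_iff h.ty.inList hr t

theorem xe_inj (h : Ty D l M) {x : Fin l → ℤ} (hx : x ∈ Phi D l) {t u : F} (e : xe h x t = xe h x u) : t = u := by
  have h1 : xe h x (t + -u) = 1 := by
    rw [← xe_add, e, xe_add, add_neg_cancel, xe_zero]
  have h2 := (xe_eq_one_iff h hx _).1 h1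
  rw [← sub_eq_add_neg, sub_eq_zero] at h2
  exact h2

section CharTwo

variable [CharP F 2]

theorem xe_sq (h : Ty D l M) (x : Fin l → ℤ) (t : F) : xe h x t * xe h x t = 1 := by
  rw [xe_add, CharTwo.add_self_eq_zero, xe_zero]

theorem xe_inv (h : Ty D l M) (x : Fin l → ℤ) (t : F) : (xe h x t)⁻¹ = xe h x t :=
  inv_eq_of_mul_eq_one_left (xe_sq h x t)

theorem sign_eq_one {η : F} (hη : η = 1 ∨ η = -1) : η = 1 := by
  rcases hη with h | h
  · exact h
  · rw [h, CharTwo.neg_eq]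

/-- `n_i x_x(t) n_i⁻¹ = x_{w_i x}(t)` -/
theorem xe_conj (h : Ty D l M) (i : Fin l) {x : Fin l → ℤ} (hx : x ∈ Phi D l) (t : F) :
    nn h.ty F i * xe h x t * (nn h.ty F i)⁻¹ = xe h (rf D l i x) t := by
  obtain ⟨r, hr, rfl⟩ := hx
  obtain ⟨η, hη, h1, -⟩ := conj_x (F := F) h.ty.inList (lt_rank h.ty i) hr
  have h2 := h1 t
  rw [sign_eq_one hη, one_mul] at h2
  rw [xe_vec h hr, rf_vec h.ty i hr, xe_vec h (reflectRoot_rt h.ty.checked (lt_rank h.ty i) hr).1]
  exact h2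

theorem xe_conj' (h : Ty D l M) (i : Fin l) {x : Fin l → ℤ} (hx : x ∈ Phi D l) (t : F) :
    (nn h.ty F i)⁻¹ * xe h x t * nn h.ty F i = xe h (rf D l i x) t := by
  have h1 := xe_conj (F := F) h i (rf_mem h.ty i hx) t
  rw [rf_rf h] at h1
  rw [← h1]
  group

end CharTwo

/-- `vec` of the terms of the commutator formula -/
theorem commTerms_vec (h : Ty D l M) {r s v i j : ℕ} {C : ℤ} (hv : (v, C, i, j) ∈ D.commTerms r s) :
    v < D.nroots ∧ 1 ≤ i ∧ 1 ≤ j ∧ vec D l v = (i : ℤ) • vec D l r + (j : ℤ) • vec D l s := by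
  obtain ⟨h1, -, -, hi, hj, hvec⟩ := commTerms_rt h.ty.checked hv
  refine ⟨h1, hi, hj, ?_⟩
  funext k
  rw [vec_apply, hvec, Pi.add_apply, Pi.smul_apply, Pi.smul_apply, smul_eq_mul, smul_eq_mul, vec_apply, vec_apply]

theorem commTerms_nil (h : Ty D l M) {r s : ℕ} (hr : r < D.nroots) (hs : s < D.nroots)
    (h0 : 0 ≤ bf D l (vec D l r) (vec D l s)) : D.commTerms r s = [] := by
  rw [List.eq_nil_iff_forall_not_mem]
  rintro ⟨v, C, i, j⟩ hv
  obtain ⟨h1, hi, hj, e⟩ := commTerms_vec h hv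
  have h2 := bf_self h (vec_mem (l := l) h1)
  rw [e, bf_add_left, bf_add_right, bf_add_right, bf_smul_left, bf_smul_left, bf_smul_right, bf_smul_right,
    bf_smul_left, bf_smul_right, bf_smul_left, bf_smul_right, bf_self h (vec_mem hr), bf_self h (vec_mem hs),
    bf_symm h (vec D l s) (vec D l r)] at h2
  have hi' : (1 : ℤ) ≤ i := by exact_mod_cast hi
  have hj' : (1 : ℤ) ≤ j := by exact_mod_cast hj
  have h3 : 0 ≤ (i : ℤ) * ((j : ℤ) * bf D l (vec D l r) (vec D l s)) := by positivity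
  nlinarith

/-- `[x_a(t), x_b(u)] = 1` for `(a, b) ≥ 0` -/
theorem commute_xe (h : Ty D l M) {x y : Fin l → ℤ} (hx : x ∈ Phi D l) (hy : y ∈ Phi D l) (h0 : 0 ≤ bf D l x y)
    (t u : F) : xe h x t * xe h y u = xe h y u * xe h x t := by
  obtain ⟨r, hr, rfl⟩ := hx
  obtain ⟨s, hs, rfl⟩ := hy
  by_cases hrs : s = r
  · subst hrs
    rw [xe_add, xe_add, add_comm]
  have hneg : s ≠ D.neg r := by
    rintro rfl
    rw [vec_neg h.ty hr, bf_neg_right, bf_self h (vec_mem hr)] at h0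
    norm_num at h0
  rw [xe_vec h hr, xe_vec h hs]
  have h1 := comm_xG h.ty (K := F) hr hs hrs hneg (-t) (-u)
  have h2 : D.commWord F r s (-t) (-u) = [] := by
    unfold ChevalleyDatum.commWord
    rw [commTerms_nil h hr hs h0, List.map_nil]
  rw [h2, xG_inv, xG_inv, _root_.neg_neg, _root_.neg_neg] at h1
  have h3 : wordG h.ty.inList ([] : List (ℕ × F)) = 1 := rfl
  rw [h3, commutatorElement_eq_one_iff_mul_comm] at h1
  exact h1.symm

section CharTwo

variable [CharP F 2]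

/-- `[x_a(t), x_b(u)] = x_{a+b}(tu)` for `(a, b) = -1` -/
theorem comm_xe (h : Ty D l M) {x y : Fin l → ℤ} (hx : x ∈ Phi D l) (hy : y ∈ Phi D l) (h0 : bf D l x y = -1)
    (t u : F) : ⁅xe h x t, xe h y u⁆ = xe h (x + y) (t * u) := by
  refine induct h.ty (fun x => ∀ y ∈ Phi D l, bf D l x y = -1 → ⁅xe h x t, xe h y u⁆ = xe h (x + y) (t * u))
    ?_ ?_ x hx y hy h0
  clear h0 hy hx
  · rintro i y ⟨s, hs, rfl⟩ h0
    have hr := simple_lt h.ty.checked (lt_rank h.ty i)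
    have h0' := h0
    rw [bf_sr_left, pairing_vec h.ty i hs] at h0'
    obtain ⟨v, c, e1, hc⟩ := h.sl.coef h.ty.checked (lt_rank h.ty i) hs h0'
    obtain ⟨hv, -, -, e2⟩ := commTerms_vec h (l := l) (show (v, c, 1, 1) ∈ D.commTerms (D.simple i) s by
      rw [e1]; exact List.mem_cons_self)
    rw [Nat.cast_one, one_smul, one_smul, vec_simple h.ty i] at e2
    have hne : s ≠ D.simple i := by
      rintro rfl
      rw [vec_simple h.ty i, bf_sr_self h] at h0
      norm_num at h0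
    have hneg : s ≠ D.neg (D.simple i) := by
      rintro rfl
      rw [vec_neg h.ty hr, vec_simple h.ty i, bf_neg_right, bf_sr_self h] at h0
      norm_num at h0
    have h1 := comm_xG h.ty (K := F) hr hs hne hneg t u
    have h2 : wordG h.ty.inList (D.commWord F (D.simple i) s t u) = xG h.ty.inList v (t * u) := by
      unfold ChevalleyDatum.commWord
      rw [e1]
      show xG h.ty.inList v ((c : F) * (-t) ^ 1 * u ^ 1) * 1 = _
      rw [mul_one, pow_one, pow_one]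
      have hc' : (c : F) = 1 := by
        apply sign_eq_one
        rcases hc with rfl | rfl
        · left; norm_num
        · right; norm_num
      rw [hc', one_mul, CharTwo.neg_eq]
    have hni : ∀ (z : ℕ) (a : F), (xG h.ty.inList z a)⁻¹ = xG h.ty.inList z a := fun z a => by
      rw [xG_inv, CharTwo.neg_eq]
    rw [h2, hni, hni] at h1
    have e3 : xe h (sr i) t = xG h.ty.inList (D.simple i) t := by rw [← vec_simple h.ty i, xe_vec h hr]
    rw [e3, xe_vec h hs, ← e2, xe_vec h hv, ← hni v (t * u), ← h1, commutatorElement_inv]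
  · intro i x hx ih y hy h1
    have h2 := ih (rf D l i y) (rf_mem h.ty i hy) (by rw [← bf_rf h i, rf_rf h]; exact h1)
    rw [← xe_conj h i hx]
    have h3 : xe h y u = nn h.ty F i * xe h (rf D l i y) u * (nn h.ty F i)⁻¹ := by
      rw [xe_conj h i (rf_mem h.ty i hy), rf_rf h]
    have h4 : rf D l i x + y = rf D l i (x + rf D l i y) := by
      have h5 : rf D l i (x + rf D l i y) = rf D l i x + rf D l i (rf D l i y) := by
        unfold rf
        rw [pairing_add, add_smul]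
        abel
      rw [h5, rf_rf h]
    rw [h3, h4, ← xe_conj h i (add_mem h hx (rf_mem h.ty i hy) (by rw [← bf_rf h i, rf_rf h]; exact h1)), ← h2]
    rw [commutatorElement_def, commutatorElement_def]
    group

/-- conjugation form: `x_a(t) x_b(u) x_a(t)⁻¹ = x_{a+b}(tu) x_b(u)` -/
theorem xe_conj_xe (h : Ty D l M) {x y : Fin l → ℤ} (hx : x ∈ Phi D l) (hy : y ∈ Phi D l) (h0 : bf D l x y = -1)
    (t u : F) : xe h x t * xe h y u * (xe h x t)⁻¹ = xe h (x + y) (t * u) * xe h y u := by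
  rw [← comm_xe h hx hy h0, commutatorElement_def]
  group

/-- the action of `h_r(c)` -/
theorem hG_conj (h : Ty D l M) {r : ℕ} (hr : r < D.nroots) {c : F} (hc : c ≠ 0) {y : Fin l → ℤ} (hy : y ∈ Phi D l)
    (t : F) : hG h.ty.inList r c * xe h y t * (hG h.ty.inList r c)⁻¹ = xe h y (c ^ bf D l (vec D l r) y * t) := by
  refine Reach.reach h.ty.inList (fun r => ∀ y ∈ Phi D l, hG h.ty.inList r c * xe h y t * (hG h.ty.inList r c)⁻¹ =
    xe h y (c ^ bf D l (vec D l r) y * t)) ?_ ?_ r hr y hy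
  · rintro i hi y ⟨s, hs, rfl⟩
    have hi' : i < l := by rw [← h.ty.rank_eq]; exact hi
    have h0 := vec_simple h.ty ⟨i, hi'⟩
    have h1 := Cfsg.Agent.S1032.result (F := F) D h.ty.inList i s hi hs c hc t
    have h2 : bf D l (vec D l (D.simple i)) (vec D l s) = D.cartan i s := by
      rw [show vec D l (D.simple i) = sr (⟨i, hi'⟩ : Fin l) from h0, bf_sr_left, pairing_vec h.ty ⟨i, hi'⟩ hs]
    rw [xe_vec h hs, xe_vec h hs, h2, mul_inv_eq_iff_eq_mul]
    refine Units.ext ?_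
    rw [Units.val_mul, Units.val_mul, coe_hG, coe_xG, coe_xG]
    exact h1
  · intro i hi s hs ih y hy
    have hi' : i < l := by rw [← h.ty.rank_eq]; exact hi
    obtain ⟨η, hη, h1⟩ := conj_h (F := F) h.ty.inList hi hs
    have h2 := h1 c
    rw [sign_eq_one hη, one_mul, hG_one, inv_one, mul_one] at h2
    have h2' : nn h.ty F ⟨i, hi'⟩ * hG h.ty.inList s c * (nn h.ty F ⟨i, hi'⟩)⁻¹ =
      hG h.ty.inList (D.reflectRoot i s) c := h2
    have h3 := ih (rf D l ⟨i, hi'⟩ y) (rf_mem h.ty ⟨i, hi'⟩ hy)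
    have h4 : ∀ a : F, xe h y a = nn h.ty F ⟨i, hi'⟩ * xe h (rf D l ⟨i, hi'⟩ y) a * (nn h.ty F ⟨i, hi'⟩)⁻¹ := fun a => by
      rw [xe_conj h ⟨i, hi'⟩ (rf_mem h.ty ⟨i, hi'⟩ hy), rf_rf h]
    have h5 : bf D l (vec D l (D.reflectRoot i s)) y = bf D l (vec D l s) (rf D l ⟨i, hi'⟩ y) := by
      rw [← bf_rf h ⟨i, hi'⟩ (vec D l s), rf_rf h, rf_vec h.ty ⟨i, hi'⟩ hs]
    rw [← h2', h4 t, h4, h5, ← h3]
    group

/-- the torus element `h_x(c)` -/
theorem exists_torus (h : Ty D l M) {x : Fin l → ℤ} (hx : x ∈ Phi D l) {c : F} (hc : c ≠ 0) :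
    ∃ k ∈ D.diagonalSubgroup F, ∀ y ∈ Phi D l, ∀ t : F, k * xe h y t * k⁻¹ = xe h y (c ^ bf D l x y * t) := by
  obtain ⟨r, hr, rfl⟩ := hx
  exact ⟨hG h.ty.inList r c, hG_mem_diagonal h.ty.inList hr hc, fun y hy t => hG_conj h hr hc hy t⟩

/-- the character of an element of the torus -/
theorem exists_chi (h : Ty D l M) {k : GL D.Idx F} (hk : k ∈ D.diagonalSubgroup F) :
    ∃ χ : (Fin l → ℤ) → F, (∀ x, χ x ≠ 0) ∧ (∀ x y, χ (x + y) = χ x * χ y) ∧
      ∀ y ∈ Phi D l, ∀ t : F, k * xe h y t * k⁻¹ = xe h y (χ y * t) := by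
  let S : Subgroup (GL D.Idx F) :=
    { carrier := {k | ∃ χ : (Fin l → ℤ) → F, (∀ x, χ x ≠ 0) ∧ (∀ x y, χ (x + y) = χ x * χ y) ∧
        ∀ y ∈ Phi D l, ∀ t : F, k * xe h y t * k⁻¹ = xe h y (χ y * t)}
      mul_mem' := by
        rintro a b ⟨χ, h1, h2, h3⟩ ⟨ψ, k1, k2, k3⟩
        refine ⟨fun x => χ x * ψ x, fun x => mul_ne_zero (h1 x) (k1 x), fun x y => ?_, fun y hy t => ?_⟩
        · show χ (x + y) * ψ (x + y) = χ x * ψ x * (χ y * ψ y)
          rw [h2, k2]; ring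
        · have e : a * b * xe h y t * (a * b)⁻¹ = a * (b * xe h y t * b⁻¹) * a⁻¹ := by group
          rw [e, k3 y hy, h3 y hy, mul_assoc]
      one_mem' := ⟨fun _ => 1, fun _ => one_ne_zero, fun _ _ => (mul_one _).symm, fun y _ t => by
        rw [one_mul, inv_one, mul_one, one_mul]⟩
      inv_mem' := by
        rintro a ⟨χ, h1, h2, h3⟩
        refine ⟨fun x => (χ x)⁻¹, fun x => inv_ne_zero (h1 x), fun x y => ?_, fun y hy t => ?_⟩
        · show (χ (x + y))⁻¹ = (χ x)⁻¹ * (χ y)⁻¹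
          rw [h2, mul_inv]
        · have e := h3 y hy ((χ y)⁻¹ * t)
          rw [mul_inv_cancel_left₀ (h1 y)] at e
          show a⁻¹ * xe h y t * a⁻¹⁻¹ = xe h y ((χ y)⁻¹ * t)
          rw [← e]
          group }
  have hle : D.diagonalSubgroup F ≤ S := by
    rw [diagonal_le_iff h.ty.inList]
    intro r hr t ht
    exact ⟨fun y => t ^ bf D l (vec D l r) y, fun y => zpow_ne_zero _ ht, fun x y => by
      show t ^ bf D l (vec D l r) (x + y) = _
      rw [bf_add_right, zpow_add₀ ht], fun y hy a => hG_conj h hr ht hy a⟩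
  exact hle hk

/-- the element `n_d(c)` -/
noncomputable def ne (h : Ty D l M) (d : Fin l → ℤ) (c : F) : GL D.Idx F := xe h d c * xe h (-d) c⁻¹ * xe h d c

/-- the action of `n_d(c)` on a root at `120°` -/
theorem ne_conj_neg (h : Ty D l M) {d y : Fin l → ℤ} (hd : d ∈ Phi D l) (hy : y ∈ Phi D l) (h0 : bf D l d y = -1)
    {c : F} (hc : c ≠ 0) (t : F) : ne h d c * xe h y t * (ne h d c)⁻¹ = xe h (d + y) (c * t) := by
  have hnd := neg_mem h.ty hd
  have hdy := add_mem h hd hy h0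
  have e1 := xe_conj_xe h hd hy h0 c t
  have e2 := xe_conj_xe h hnd hdy (by rw [bf_neg_left, bf_add_right, bf_self h hd, h0]; norm_num) c⁻¹ (c * t)
  rw [neg_add_cancel_left, inv_mul_cancel_left₀ hc] at e2
  have e3 := commute_xe h hnd hy (by rw [bf_neg_left, h0]; norm_num) c⁻¹ t
  have e4 := commute_xe h hd hdy (by rw [bf_add_right, bf_self h hd, h0]; norm_num) c (c * t)
  have e5 := commute_xe h hdy hy (by rw [bf_add_left, bf_self h hy, h0]; norm_num) (c * t) t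
  calc ne h d c * xe h y t * (ne h d c)⁻¹
      = xe h d c * (xe h (-d) c⁻¹ * (xe h d c * xe h y t * (xe h d c)⁻¹) * (xe h (-d) c⁻¹)⁻¹) * (xe h d c)⁻¹ := by
        unfold ne; group
    _ = xe h d c * ((xe h (-d) c⁻¹ * xe h (d + y) (c * t) * (xe h (-d) c⁻¹)⁻¹) *
          (xe h (-d) c⁻¹ * xe h y t * (xe h (-d) c⁻¹)⁻¹)) * (xe h d c)⁻¹ := by rw [e1]; group
    _ = xe h d c * ((xe h y t * xe h (d + y) (c * t)) * xe h y t) * (xe h d c)⁻¹ := by
        rw [e2, e3, mul_inv_cancel_right]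
    _ = xe h d c * xe h (d + y) (c * t) * (xe h d c)⁻¹ := by
        rw [mul_assoc (xe h y t), e5, ← mul_assoc (xe h y t), xe_sq, one_mul]
    _ = xe h (d + y) (c * t) := by rw [e4, mul_inv_cancel_right]

/-- the action of `n_d(c)` on a root at `60°` -/
theorem ne_conj_pos (h : Ty D l M) {d y : Fin l → ℤ} (hd : d ∈ Phi D l) (hy : y ∈ Phi D l) (h0 : bf D l d y = 1)
    {c : F} (hc : c ≠ 0) (t : F) : ne h d c * xe h y t * (ne h d c)⁻¹ = xe h (y - d) (c⁻¹ * t) := by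
  have hnd := neg_mem h.ty hd
  have hdy : y - d ∈ Phi D l := sub_mem h hy hd (by rw [bf_symm h]; exact h0)
  have e1 := commute_xe h hd hy (by rw [h0]; norm_num) c t
  have e2 := xe_conj_xe h hnd hy (by rw [bf_neg_left, h0]) c⁻¹ t
  have e0 : -d + y = y - d := by abel
  rw [e0] at e2
  have e3 := xe_conj_xe h hd hdy (by rw [bf_sub_right, bf_self h hd, h0]; norm_num) c (c⁻¹ * t)
  rw [add_sub_cancel, mul_inv_cancel_left₀ hc] at e3
  have e4 := commute_xe h hdy hy (by rw [bf_sub_left, bf_self h hy, h0]; norm_num) (c⁻¹ * t) t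
  calc ne h d c * xe h y t * (ne h d c)⁻¹
      = xe h d c * (xe h (-d) c⁻¹ * (xe h d c * xe h y t * (xe h d c)⁻¹) * (xe h (-d) c⁻¹)⁻¹) * (xe h d c)⁻¹ := by
        unfold ne; group
    _ = xe h d c * (xe h (-d) c⁻¹ * xe h y t * (xe h (-d) c⁻¹)⁻¹) * (xe h d c)⁻¹ := by
        rw [e1, mul_inv_cancel_right]
    _ = (xe h d c * xe h (y - d) (c⁻¹ * t) * (xe h d c)⁻¹) * (xe h d c * xe h y t * (xe h d c)⁻¹) := by
        rw [e2]; group
    _ = xe h y t * xe h (y - d) (c⁻¹ * t) * xe h y t := by rw [e3, e1, mul_inv_cancel_right]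
    _ = xe h (y - d) (c⁻¹ * t) := by rw [mul_assoc, e4, ← mul_assoc, xe_sq, one_mul]

/-- the swap of two root elements at `60°` -/
theorem exists_swap (h : Ty D l M) {x y : Fin l → ℤ} (hx : x ∈ Phi D l) (hy : y ∈ Phi D l) (h0 : bf D l x y = 1)
    {t u : F} (ht : t ≠ 0) (hu : u ≠ 0) : ∃ c : F, c ≠ 0 ∧
      ne h (x - y) c * xe h y u * (ne h (x - y) c)⁻¹ = xe h x t ∧
      ne h (x - y) c * xe h x t * (ne h (x - y) c)⁻¹ = xe h y u := by
  have hd := sub_mem h hx hy h0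
  refine ⟨t * u⁻¹, mul_ne_zero ht (inv_ne_zero hu), ?_, ?_⟩
  · rw [ne_conj_neg h hd hy (by rw [bf_sub_left, h0, bf_self h hy]; norm_num)
      (mul_ne_zero ht (inv_ne_zero hu)), sub_add_cancel, mul_assoc, inv_mul_cancel₀ hu, mul_one]
  · rw [ne_conj_pos h hd hx (by rw [bf_sub_left, bf_self h hx, bf_symm h, h0]; norm_num)
      (mul_ne_zero ht (inv_ne_zero hu)), sub_sub_cancel]
    congr 1
    field_simp

end CharTwo

end Cfsg.Agent.KFacts.En.Rel
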