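import Cfsg.Agent.ChevalleyStructure.RootVec

/-!
The simply laced tables D₄, E₆, E₇, E₈: kernel checks.

* `SL D` : the checks; `sl_D4`, `sl_E6`, `sl_E7`, `sl_E8`;
* `SL.symm`, `SL.row`, `SL.tri`, `SL.coef` : the facts, in terms of `D.cartan`, `rt D`, `D.commTerms`.
-/

set_option autoImplicit false

namespace Cfsg.Agent.KFacts.En.Tab

open Cfsg.Lie Cfsg.Agent.ChevalleyStructure.RootVecTab Cfsg.Agent.ChevalleyStructure.RootVec

/-- the Cartan matrix is symmetric -/
def chkSymm (D : ChevalleyDatum) : Bool :=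
  allLT (fun i => allLT (fun j => Nat.beq (cart D i (D.simple j)) (cart D j (D.simple i))) D.rank) D.rank

/-- the Cartan integers of a root different from `± p_i` are `-1`, `0`, `1` -/
def chkRow1 (D : ChevalleyDatum) : Bool :=
  allLT (fun i => allLT (fun s => Nat.beq s (D.simple i) || Nat.beq s (D.neg (D.simple i)) ||
    (Nat.ble 7 (cart D i s) && Nat.ble (cart D i s) 9)) D.nroots) D.rank

/-- every root `s` with `(p_i, s) = 1` has a companion `c` with `(p_i, c) = (s, c) = 1` -/
def chkTri (D : ChevalleyDatum) : Bool :=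
  allLT (fun i => allLT (fun s => !(Nat.beq (cart D i s) 9) ||
    anyLT (fun c => Nat.beq (cart D i c) 9 &&
      Nat.beq (Nat.add (sumLT (fun k => Nat.mul (dig (code D s) (D.rank - 1 - k)) (cart D k c)) D.rank) (64 * D.rank))
        (Nat.add 1 (Nat.mul 8 (Nat.add (sumLT (fun k => dig (code D s) (D.rank - 1 - k)) D.rank)
          (sumLT (fun k => cart D k c) D.rank))))) D.nroots) D.nroots) D.rank

/-- every root `s` with `(p_i, s) = 0` has a companion `a` with `(p_i, a) = 1`, `(s, a) = -1` -/
def chkOrth (D : ChevalleyDatum) : Bool :=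
  allLT (fun i => allLT (fun s => !(Nat.beq (cart D i s) 8) ||
    anyLT (fun c => Nat.beq (cart D i c) 9 &&
      Nat.beq (Nat.add 1 (Nat.add (sumLT (fun k => Nat.mul (dig (code D s) (D.rank - 1 - k)) (cart D k c)) D.rank)
        (64 * D.rank)))
        (Nat.mul 8 (Nat.add (sumLT (fun k => dig (code D s) (D.rank - 1 - k)) D.rank)
          (sumLT (fun k => cart D k c) D.rank)))) D.nroots) D.nroots) D.rank

/-- the commutator constants of `p_i` and `s`, `(p_i, s) = -1`, are `± 1` -/
def chkCoef (D : ChevalleyDatum) : Bool :=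
  allLT (fun i => allLT (fun s => !(Nat.beq (cart D i s) 7) ||
    match D.commTerms (D.simple i) s with
    | [(_, c, 1, 1)] => Nat.beq c.natAbs 1
    | _ => false) D.nroots) D.rank

/-- the simply laced tables -/
structure SL (D : ChevalleyDatum) : Prop where
  chkSymm : chkSymm D = true
  chkRow1 : chkRow1 D = true
  chkTri : chkTri D = true
  chkCoef : chkCoef D = true
  chkOrth : chkOrth D = true

theorem sl_D4 : SL chevD4 := ⟨by decide +kernel, by decide +kernel, by decide +kernel, by decide +kernel, by decide +kernel⟩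
theorem sl_E6 : SL chevE6 := ⟨by decide +kernel, by decide +kernel, by decide +kernel, by decide +kernel, by decide +kernel⟩
theorem sl_E7 : SL chevE7 := ⟨by decide +kernel, by decide +kernel, by decide +kernel, by decide +kernel, by decide +kernel⟩
theorem sl_E8 : SL chevE8 := ⟨by decide +kernel, by decide +kernel, by decide +kernel, by decide +kernel, by decide +kernel⟩

variable {D : ChevalleyDatum}

theorem SL.symm (hS : SL D) (h : Checked D) {i j : ℕ} (hi : i < D.rank) (hj : j < D.rank) :
    D.cartan i (D.simple j) = D.cartan j (D.simple i) := by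
  have h1 := hS.chkSymm
  simp only [Tab.chkSymm, allLT_iff, beq_iff] at h1
  rw [cartan_eq_cart h hi (simple_lt h hj), cartan_eq_cart h hj (simple_lt h hi), h1 i hi j hj]

theorem SL.row (hS : SL D) (h : Checked D) {i s : ℕ} (hi : i < D.rank) (hs : s < D.nroots) :
    s = D.simple i ∨ s = D.neg (D.simple i) ∨ (-1 ≤ D.cartan i s ∧ D.cartan i s ≤ 1) := by
  have h1 := hS.chkRow1
  simp only [Tab.chkRow1, allLT_iff, Bool.or_eq_true, Bool.and_eq_true, beq_iff, ble_iff] at h1
  rcases h1 i hi s hs with (h2 | h2) | h2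
  · exact Or.inl h2
  · exact Or.inr (Or.inl h2)
  · right; right
    rw [cartan_eq_cart h hi hs]
    omega

theorem SL.tri (hS : SL D) (h : Checked D) {i s : ℕ} (hi : i < D.rank) (hs : s < D.nroots) (h1 : D.cartan i s = 1) :
    ∃ c < D.nroots, D.cartan i c = 1 ∧ ∑ k ∈ Finset.range D.rank, rt D s k * D.cartan k c = 1 := by
  have h2 := hS.chkTri
  simp only [Tab.chkTri, allLT_iff, anyLT_iff, Bool.or_eq_true, Bool.and_eq_true, Bool.not_eq_true',
    beq_iff, sumLT_eq] at h2
  rcases h2 i hi s hs with h3 | ⟨c, hc, h3, h4⟩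
  · exfalso
    rw [cartan_eq_cart h hi hs] at h1
    have h4 : cart D i s = 9 := by omega
    rw [h4] at h3
    exact absurd h3 (by decide)
  · refine ⟨c, hc, by rw [cartan_eq_cart h hi hc, h3]; norm_num, ?_⟩
    have e1 : ∑ k ∈ Finset.range D.rank, rt D s k * D.cartan k c =
        ∑ k ∈ Finset.range D.rank, ((dig (code D s) (D.rank - 1 - k) : ℤ) * (cart D k c : ℤ)
          - 8 * (dig (code D s) (D.rank - 1 - k) : ℤ) - 8 * (cart D k c : ℤ) + 64) := by
      refine Finset.sum_congr rfl fun k hk => ?_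
      rw [Finset.mem_range] at hk
      rw [rt_of_lt hs hk, cartan_eq_cart h hk hc]
      ring
    have e2 : (∑ k ∈ Finset.range D.rank, (dig (code D s) (D.rank - 1 - k) : ℤ) * (cart D k c : ℤ)) + 64 * D.rank =
        1 + 8 * ((∑ k ∈ Finset.range D.rank, (dig (code D s) (D.rank - 1 - k) : ℤ))
          + ∑ k ∈ Finset.range D.rank, (cart D k c : ℤ)) := by
      exact_mod_cast h4
    rw [e1, Finset.sum_add_distrib, Finset.sum_sub_distrib, Finset.sum_sub_distrib, ← Finset.mul_sum,
      ← Finset.mul_sum, Finset.sum_const, Finset.card_range, nsmul_eq_mul]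
    linarith

theorem SL.orth (hS : SL D) (h : Checked D) {i s : ℕ} (hi : i < D.rank) (hs : s < D.nroots) (h1 : D.cartan i s = 0) :
    ∃ c < D.nroots, D.cartan i c = 1 ∧ ∑ k ∈ Finset.range D.rank, rt D s k * D.cartan k c = -1 := by
  have h2 := hS.chkOrth
  simp only [Tab.chkOrth, allLT_iff, anyLT_iff, Bool.or_eq_true, Bool.and_eq_true, Bool.not_eq_true',
    beq_iff, sumLT_eq] at h2
  rcases h2 i hi s hs with h3 | ⟨c, hc, h3, h4⟩
  · exfalso
    rw [cartan_eq_cart h hi hs] at h1
    have h4 : cart D i s = 8 := by omega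
    rw [h4] at h3
    exact absurd h3 (by decide)
  · refine ⟨c, hc, by rw [cartan_eq_cart h hi hc, h3]; norm_num, ?_⟩
    have e1 : ∑ k ∈ Finset.range D.rank, rt D s k * D.cartan k c =
        ∑ k ∈ Finset.range D.rank, ((dig (code D s) (D.rank - 1 - k) : ℤ) * (cart D k c : ℤ)
          - 8 * (dig (code D s) (D.rank - 1 - k) : ℤ) - 8 * (cart D k c : ℤ) + 64) := by
      refine Finset.sum_congr rfl fun k hk => ?_
      rw [Finset.mem_range] at hk
      rw [rt_of_lt hs hk, cartan_eq_cart h hk hc]
      ring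
    have e2 : 1 + ((∑ k ∈ Finset.range D.rank, (dig (code D s) (D.rank - 1 - k) : ℤ) * (cart D k c : ℤ)) + 64 * D.rank) =
        8 * ((∑ k ∈ Finset.range D.rank, (dig (code D s) (D.rank - 1 - k) : ℤ))
          + ∑ k ∈ Finset.range D.rank, (cart D k c : ℤ)) := by
      exact_mod_cast h4
    rw [e1, Finset.sum_add_distrib, Finset.sum_sub_distrib, Finset.sum_sub_distrib, ← Finset.mul_sum,
      ← Finset.mul_sum, Finset.sum_const, Finset.card_range, nsmul_eq_mul]
    linarith

theorem SL.coef (hS : SL D) (h : Checked D) {i s : ℕ} (hi : i < D.rank) (hs : s < D.nroots) (h1 : D.cartan i s = -1) :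
    ∃ (u : ℕ) (c : ℤ), D.commTerms (D.simple i) s = [(u, c, 1, 1)] ∧ (c = 1 ∨ c = -1) := by
  have h2 := hS.chkCoef
  simp only [Tab.chkCoef, allLT_iff, Bool.or_eq_true, Bool.not_eq_true'] at h2
  rcases h2 i hi s hs with h3 | h3
  · exfalso
    rw [cartan_eq_cart h hi hs] at h1
    have h4 : cart D i s = 7 := by omega
    rw [h4] at h3
    exact absurd h3 (by decide)
  · split at h3
    · rename_i u c e
      refine ⟨u, c, e, ?_⟩
      have h4 : c.natAbs = 1 := Nat.eq_of_beq_eq_true h3
      omega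
    · exact absurd h3 (by decide)

end Cfsg.Agent.KFacts.En.Tab
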