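import Cfsg.Agent.Nodes.RGDChev
import Cfsg.Agent.KFacts.En.Tab
import Cfsg.Agent.OddHalf.SL.Defs

/-!
The root systems of the simply laced tables D₄, E₆, E₇, E₈ as sets of vectors with an integral bilinear form.

* `bf D l` : the form; `Phi D l` : the set of roots;
* `Ty D l M` : the simply laced types;
* `bf_add_left`, `bf_symm`, `bf_self`, `bf_le`, `eq_of_bf`, `add_mem`, `neg_mem`, `finite_Phi`, `tri`.
-/

set_option autoImplicit false
set_option linter.unusedSectionVars false

namespace Cfsg.Agent.KFacts.En.Roots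

open Cfsg.Lie Cfsg.Agent.ChevalleyStructure Cfsg.Agent.ChevalleyStructure.Elts
  Cfsg.Agent.ChevalleyStructure.RootVec Cfsg.Agent.ChevalleyStructure.RootVecTab
  Cfsg.Agent.ChevalleyStructure.CoxeterGeom Cfsg.Agent.ChevalleyStructure.CoxeterGeomTypes
  Cfsg.Agent.Nodes.RGDChev Cfsg.Agent.Tits.Roots Cfsg.Agent.Tits.Core Cfsg.Agent.KFacts.En.Tab

/-- The bilinear form on the root lattice. -/
def bf (D : ChevalleyDatum) (l : ℕ) (x y : Fin l → ℤ) : ℤ := ∑ i, x i * pairing (cartanOf D l) i y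

/-- The set of roots. -/
def Phi (D : ChevalleyDatum) (l : ℕ) : Set (Fin l → ℤ) := {x | ∃ r < D.nroots, vec D l r = x}

theorem vec_mem {D : ChevalleyDatum} {l r : ℕ} (hr : r < D.nroots) : vec D l r ∈ Phi D l := ⟨r, hr, rfl⟩

/-- the simply laced types -/
structure Ty (D : ChevalleyDatum) (l : ℕ) (M : CoxeterMatrix (Fin l)) : Prop where
  ty : IsType D l M
  sl : SL D

theorem ty_D4 : Ty chevD4 4 Cfsg.Lie.coxeterD4 := ⟨by simp [IsType, typeList], sl_D4⟩
theorem ty_E6 : Ty chevE6 6 CoxeterMatrix.E₆ := ⟨by simp [IsType, typeList], sl_E6⟩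
theorem ty_E7 : Ty chevE7 7 CoxeterMatrix.E₇ := ⟨by simp [IsType, typeList], sl_E7⟩
theorem ty_E8 : Ty chevE8 8 CoxeterMatrix.E₈ := ⟨by simp [IsType, typeList], sl_E8⟩

variable {D : ChevalleyDatum} {l : ℕ} {M : CoxeterMatrix (Fin l)}

theorem bf_add_left (x y z : Fin l → ℤ) : bf D l (x + y) z = bf D l x z + bf D l y z := by
  unfold bf
  rw [← Finset.sum_add_distrib]
  exact Finset.sum_congr rfl fun i _ => by rw [Pi.add_apply]; ring

theorem bf_add_right (x y z : Fin l → ℤ) : bf D l x (y + z) = bf D l x y + bf D l x z := by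
  unfold bf
  rw [← Finset.sum_add_distrib]
  exact Finset.sum_congr rfl fun i _ => by rw [pairing_add]; ring

theorem bf_smul_left (c : ℤ) (x y : Fin l → ℤ) : bf D l (c • x) y = c * bf D l x y := by
  unfold bf
  rw [Finset.mul_sum]
  exact Finset.sum_congr rfl fun i _ => by rw [Pi.smul_apply, smul_eq_mul]; ring

theorem bf_smul_right (c : ℤ) (x y : Fin l → ℤ) : bf D l x (c • y) = c * bf D l x y := by
  unfold bf
  rw [Finset.mul_sum]
  exact Finset.sum_congr rfl fun i _ => by rw [pairing_smul]; ring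

theorem bf_neg_left (x y : Fin l → ℤ) : bf D l (-x) y = - bf D l x y := by
  rw [← neg_one_smul ℤ x, bf_smul_left]; ring

theorem bf_neg_right (x y : Fin l → ℤ) : bf D l x (-y) = - bf D l x y := by
  rw [← neg_one_smul ℤ y, bf_smul_right]; ring

theorem bf_sub_left (x y z : Fin l → ℤ) : bf D l (x - y) z = bf D l x z - bf D l y z := by
  rw [sub_eq_add_neg, bf_add_left, bf_neg_left]; ring

theorem bf_sub_right (x y z : Fin l → ℤ) : bf D l x (y - z) = bf D l x y - bf D l x z := by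
  rw [sub_eq_add_neg, bf_add_right, bf_neg_right]; ring

theorem bf_sr_left (i : Fin l) (y : Fin l → ℤ) : bf D l (sr i) y = pairing (cartanOf D l) i y := by
  unfold bf
  rw [Finset.sum_eq_single i]
  · rw [sr_self, one_mul]
  · intro j _ hj
    rw [sr_ne hj, zero_mul]
  · intro h
    exact absurd (Finset.mem_univ i) h

/-- the form by coordinates of the first root -/
theorem bf_vec (hp : IsType D l M) {r s : ℕ} (hs : s < D.nroots) :
    bf D l (vec D l r) (vec D l s) = ∑ k ∈ Finset.range D.rank, rt D r k * D.cartan k s := by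
  unfold bf
  rw [hp.rank_eq, ← Fin.sum_univ_eq_sum_range (fun k => rt D r k * D.cartan k s)]
  exact Finset.sum_congr rfl fun i _ => by rw [pairing_vec hp i hs, vec_apply]

theorem bf_symm (h : Ty D l M) (x y : Fin l → ℤ) : bf D l x y = bf D l y x := by
  have hA : ∀ i j : Fin l, cartanOf D l i j = cartanOf D l j i := fun i j =>
    h.sl.symm h.ty.checked (lt_rank h.ty i) (lt_rank h.ty j)
  unfold bf pairing
  simp only [Finset.mul_sum]
  rw [Finset.sum_comm]
  refine Finset.sum_congr rfl fun i _ => Finset.sum_congr rfl fun j _ => ?_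
  rw [hA i j]
  ring

/-- the reflection in a fundamental root -/
def rf (D : ChevalleyDatum) (l : ℕ) (i : Fin l) (x : Fin l → ℤ) : Fin l → ℤ :=
  x - pairing (cartanOf D l) i x • sr i

theorem bf_sr_self (h : Ty D l M) (i : Fin l) : bf D l (sr i) (sr i) = 2 := by
  rw [bf_sr_left, ← vec_simple h.ty i, pairing_vec h.ty i (simple_lt h.ty.checked (lt_rank h.ty i)),
    cartan_simple_self h.ty.checked (lt_rank h.ty i)]

theorem bf_rf (h : Ty D l M) (i : Fin l) (x y : Fin l → ℤ) : bf D l (rf D l i x) (rf D l i y) = bf D l x y := by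
  unfold rf
  rw [bf_sub_left, bf_sub_right, bf_sub_right, bf_smul_left, bf_smul_left, bf_smul_right, bf_smul_right,
    bf_sr_self h, bf_symm h x (sr i), bf_sr_left, bf_sr_left]
  ring

theorem rf_rf (h : Ty D l M) (i : Fin l) (x : Fin l → ℤ) : rf D l i (rf D l i x) = x := by
  have h1 : pairing (cartanOf D l) i (rf D l i x) = - pairing (cartanOf D l) i x := by
    rw [← bf_sr_left]
    unfold rf
    rw [bf_sub_right, bf_smul_right, bf_sr_self h, bf_sr_left]
    ring
  have h2 : rf D l i (rf D l i x) = rf D l i x - pairing (cartanOf D l) i (rf D l i x) • sr i := rfl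
  rw [h2, h1]
  show x - pairing (cartanOf D l) i x • sr i - (- pairing (cartanOf D l) i x) • sr i = x
  rw [neg_smul]
  abel

theorem rf_vec (hp : IsType D l M) (i : Fin l) {r : ℕ} (hr : r < D.nroots) :
    rf D l i (vec D l r) = vec D l (D.reflectRoot i r) := by
  funext j
  show vec D l r j - pairing (cartanOf D l) i (vec D l r) * sr i j = _
  rw [pairing_vec hp i hr, vec_apply, vec_apply, (reflectRoot_rt hp.checked (lt_rank hp i) hr).2]
  by_cases hj : j = i
  · subst hj; rw [sr_self, if_pos rfl]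
  · rw [sr_ne hj, if_neg (fun h => hj (Fin.ext h))]

theorem rf_mem (hp : IsType D l M) (i : Fin l) {x : Fin l → ℤ} (hx : x ∈ Phi D l) : rf D l i x ∈ Phi D l := by
  obtain ⟨r, hr, rfl⟩ := hx
  rw [rf_vec hp i hr]
  exact vec_mem (reflectRoot_rt hp.checked (lt_rank hp i) hr).1

theorem sr_mem (hp : IsType D l M) (i : Fin l) : sr i ∈ Phi D l := by
  rw [← vec_simple hp i]
  exact vec_mem (simple_lt hp.checked (lt_rank hp i))

theorem neg_mem (hp : IsType D l M) {x : Fin l → ℤ} (hx : x ∈ Phi D l) : -x ∈ Phi D l := by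
  obtain ⟨r, hr, rfl⟩ := hx
  rw [← vec_neg hp hr]
  exact vec_mem (neg_lt hp.checked hr)

/-- Induction over the roots by reflections. -/
theorem induct (hp : IsType D l M) (P : (Fin l → ℤ) → Prop) (h0 : ∀ i, P (sr i))
    (h1 : ∀ i, ∀ x ∈ Phi D l, P x → P (rf D l i x)) : ∀ x ∈ Phi D l, P x := by
  rintro x ⟨r, hr, rfl⟩
  refine Reach.reach hp.inList (fun s => P (vec D l s)) ?_ ?_ r hr
  · intro i hi
    have hi' : i < l := by rw [← hp.rank_eq]; exact hi
    have := vec_simple hp ⟨i, hi'⟩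
    show P (vec D l (D.simple ((⟨i, hi'⟩ : Fin l) : ℕ)))
    rw [this]
    exact h0 _
  · intro i hi s hs h
    have hi' : i < l := by rw [← hp.rank_eq]; exact hi
    show P (vec D l (D.reflectRoot ((⟨i, hi'⟩ : Fin l) : ℕ) s))
    rw [← rf_vec hp ⟨i, hi'⟩ hs]
    exact h1 _ _ (vec_mem hs) h

theorem finite_Phi : (Phi D l).Finite := by
  have : Phi D l = Set.range (fun r : Fin D.nroots => vec D l r) := by
    ext x
    constructor
    · rintro ⟨r, hr, rfl⟩
      exact ⟨⟨r, hr⟩, rfl⟩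
    · rintro ⟨r, rfl⟩
      exact vec_mem r.2
  rw [this]
  exact Set.finite_range _

theorem bf_self (h : Ty D l M) {x : Fin l → ℤ} (hx : x ∈ Phi D l) : bf D l x x = 2 :=
  induct h.ty (fun x => bf D l x x = 2) (bf_sr_self h) (fun i x _ hx => by rw [bf_rf h]; exact hx) x hx

/-- different, non opposite roots -/
theorem bf_cases (h : Ty D l M) {x y : Fin l → ℤ} (hx : x ∈ Phi D l) (hy : y ∈ Phi D l) :
    y = x ∨ y = -x ∨ (-1 ≤ bf D l x y ∧ bf D l x y ≤ 1) := by
  refine induct h.ty (fun x => ∀ y ∈ Phi D l, y = x ∨ y = -x ∨ (-1 ≤ bf D l x y ∧ bf D l x y ≤ 1)) ?_ ?_ x hx y hy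
  · rintro i y ⟨s, hs, rfl⟩
    rw [bf_sr_left, pairing_vec h.ty i hs]
    rcases h.sl.row h.ty.checked (lt_rank h.ty i) hs with h1 | h1 | h1
    · left; rw [h1, vec_simple h.ty i]
    · right; left
      rw [h1, vec_neg h.ty (simple_lt h.ty.checked (lt_rank h.ty i)), vec_simple h.ty i]
    · exact Or.inr (Or.inr h1)
  · intro i x _ ih y hy
    have h1 := ih (rf D l i y) (rf_mem h.ty i hy)
    rw [← bf_rf h i x (rf D l i y), rf_rf h] at h1
    rcases h1 with h1 | h1 | h1
    · left; rw [← h1, rf_rf h]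
    · right; left
      rw [← rf_rf h i y, h1]
      funext j
      show (-x) j - pairing (cartanOf D l) i (-x) * sr i j = -(x j - pairing (cartanOf D l) i x * sr i j)
      have : pairing (cartanOf D l) i (-x) = - pairing (cartanOf D l) i x := by
        rw [← bf_sr_left, bf_neg_right, bf_sr_left]
      rw [this, Pi.neg_apply]
      ring
    · exact Or.inr (Or.inr h1)

theorem bf_le (h : Ty D l M) {x y : Fin l → ℤ} (hx : x ∈ Phi D l) (hy : y ∈ Phi D l) : bf D l x y ≤ 2 := by
  rcases bf_cases h hx hy with rfl | rfl | h1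
  · rw [bf_self h hx]
  · rw [bf_neg_right, bf_self h hx]; norm_num
  · omega

theorem eq_of_bf (h : Ty D l M) {x y : Fin l → ℤ} (hx : x ∈ Phi D l) (hy : y ∈ Phi D l) (h2 : bf D l x y = 2) :
    x = y := by
  rcases bf_cases h hx hy with h1 | rfl | h1
  · exact h1.symm
  · rw [bf_neg_right, bf_self h hx] at h2; norm_num at h2
  · omega

theorem eq_neg_of_bf (h : Ty D l M) {x y : Fin l → ℤ} (hx : x ∈ Phi D l) (hy : y ∈ Phi D l) (h2 : bf D l x y = -2) :
    y = -x := by
  rcases bf_cases h hx hy with rfl | h1 | h1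
  · rw [bf_self h hx] at h2; norm_num at h2
  · exact h1
  · omega

/-- `x + y` is a root if `(x, y) = -1` -/
theorem add_mem (h : Ty D l M) {x y : Fin l → ℤ} (hx : x ∈ Phi D l) (hy : y ∈ Phi D l) (h1 : bf D l x y = -1) :
    x + y ∈ Phi D l := by
  refine induct h.ty (fun x => ∀ y ∈ Phi D l, bf D l x y = -1 → x + y ∈ Phi D l) ?_ ?_ x hx y hy h1
  clear h1 hy hx
  · intro i y hy h1
    have h2 := rf_mem h.ty i hy
    have h3 : rf D l i y = sr i + y := by
      show y - pairing (cartanOf D l) i y • sr i = _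
      rw [← bf_sr_left, h1, neg_smul, one_smul]
      abel
    rwa [h3] at h2
  · intro i x _ ih y hy h1
    have h2 : bf D l x (rf D l i y) = -1 := by rw [← bf_rf h i, rf_rf h]; exact h1
    have h3 := rf_mem h.ty i (ih (rf D l i y) (rf_mem h.ty i hy) h2)
    have h4 : rf D l i (x + rf D l i y) = rf D l i x + y := by
      have h5 : rf D l i (x + rf D l i y) = rf D l i x + rf D l i (rf D l i y) := by
        unfold rf
        rw [pairing_add, add_smul]
        abel
      rw [h5, rf_rf h]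
    rwa [h4] at h3

/-- `x - y` is a root if `(x, y) = 1` -/
theorem sub_mem (h : Ty D l M) {x y : Fin l → ℤ} (hx : x ∈ Phi D l) (hy : y ∈ Phi D l) (h1 : bf D l x y = 1) :
    x - y ∈ Phi D l := by
  rw [sub_eq_add_neg]
  exact add_mem h hx (neg_mem h.ty hy) (by rw [bf_neg_right, h1])

/-- a third root at `60°` to two roots at `60°` -/
theorem tri (h : Ty D l M) {x y : Fin l → ℤ} (hx : x ∈ Phi D l) (hy : y ∈ Phi D l) (h1 : bf D l x y = 1) :
    ∃ c ∈ Phi D l, bf D l x c = 1 ∧ bf D l y c = 1 := by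
  refine induct h.ty (fun x => ∀ y ∈ Phi D l, bf D l x y = 1 → ∃ c ∈ Phi D l, bf D l x c = 1 ∧ bf D l y c = 1)
    ?_ ?_ x hx y hy h1
  clear h1 hy hx
  · rintro i y ⟨s, hs, rfl⟩ h1
    rw [bf_sr_left, pairing_vec h.ty i hs] at h1
    obtain ⟨c, hc, h2, h3⟩ := h.sl.tri h.ty.checked (lt_rank h.ty i) hs h1
    refine ⟨vec D l c, vec_mem hc, ?_, ?_⟩
    · rw [bf_sr_left, pairing_vec h.ty i hc, h2]
    · rw [bf_vec h.ty hc, h3]
  · intro i x _ ih y hy h1
    obtain ⟨c, hc, h2, h3⟩ := ih (rf D l i y) (rf_mem h.ty i hy) (by rw [← bf_rf h i, rf_rf h]; exact h1)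
    refine ⟨rf D l i c, rf_mem h.ty i hc, by rw [bf_rf h]; exact h2, ?_⟩
    rw [← bf_rf h i, rf_rf h]
    exact h3

/-- a root `a` with `(x, a) = 1`, `(y, a) = -1` for orthogonal roots `x`, `y` -/
theorem orth (h : Ty D l M) {x y : Fin l → ℤ} (hx : x ∈ Phi D l) (hy : y ∈ Phi D l) (h1 : bf D l x y = 0) :
    ∃ a ∈ Phi D l, bf D l x a = 1 ∧ bf D l y a = -1 := by
  refine induct h.ty (fun x => ∀ y ∈ Phi D l, bf D l x y = 0 → ∃ c ∈ Phi D l, bf D l x c = 1 ∧ bf D l y c = -1)
    ?_ ?_ x hx y hy h1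
  clear h1 hy hx
  · rintro i y ⟨s, hs, rfl⟩ h1
    rw [bf_sr_left, pairing_vec h.ty i hs] at h1
    obtain ⟨c, hc, h2, h3⟩ := h.sl.orth h.ty.checked (lt_rank h.ty i) hs h1
    refine ⟨vec D l c, vec_mem hc, ?_, ?_⟩
    · rw [bf_sr_left, pairing_vec h.ty i hc, h2]
    · rw [bf_vec h.ty hc, h3]
  · intro i x _ ih y hy h1
    obtain ⟨c, hc, h2, h3⟩ := ih (rf D l i y) (rf_mem h.ty i hy) (by rw [← bf_rf h i, rf_rf h]; exact h1)
    refine ⟨rf D l i c, rf_mem h.ty i hc, by rw [bf_rf h]; exact h2, ?_⟩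
    rw [← bf_rf h i, rf_rf h]
    exact h3

/-- the root system in the form needed for the doubling argument -/
theorem roots (h : Ty D l M) : Cfsg.Agent.OddHalf.SL.Defs.Roots (bf D l) (Phi D l) where
  fin := finite_Phi
  symm := bf_symm h
  add_left := bf_add_left
  two := fun _ ha => bf_self h ha
  neg_mem := fun _ ha => neg_mem h.ty ha
  le := fun _ ha _ hb => bf_le h ha hb
  eq := fun _ ha _ hb hab => eq_of_bf h ha hb hab
  add := fun _ ha _ hb hab => add_mem h ha hb hab

end Cfsg.Agent.KFacts.En.Roots
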